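import Mathlib
import Cfsg.Prelude.Def_OddOrderLocal
import Cfsg.Statements.S1403
import Cfsg.Statements.S1404
import Cfsg.Statements.S1405
import Cfsg.Statements.S1414
import Cfsg.Agent.Lib.Helper35.BG.Basic
import Cfsg.Agent.Lib.Helper35.BG.Hall
import Cfsg.Agent.Lib.Helper67.BG.HallUtil
import Cfsg.Agent.Lib.Helper16.BG.NilHall
import Cfsg.Agent.Lib.Helper66.BG.S1350Core
import Cfsg.Agent.Lib.Helper1.SZInternal

/-!
S1430 campaign, Lemma L4 (B&G 13.4/13.5), part (v): `α(M) ⊆ β(M)` for a coatom `M` having a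
Sylow `q`-subgroup `Q ≤ M'` with `q ∉ α(M)` whose normalizer lies in another coatom — helper85.
-/

set_option autoImplicit false

namespace Cfsg.Agent.Lib.Helper85.BG

open Cfsg Cfsg.Agent.Lib.Helper46 Cfsg.Agent.Lib.Helper35.BG

universe u

theorem l4_alpha_beta {G : Type u} [Group G] [Finite G] (hG : Cfsg.IsMinSimpleOddOrder G)
    (h1403 : type_of% (@Cfsg.CfsgFrozen.S1403 G _ _ hG))
    (h1404 : type_of% (@Cfsg.CfsgFrozen.S1404 G _ _ hG))
    (h1405 : type_of% (@Cfsg.CfsgFrozen.S1405 G _ _ hG))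
    (h1414 : type_of% (@Cfsg.CfsgFrozen.S1414 G _ _ hG))
    (M Ms : Subgroup G) (hM : IsCoatom M) (hMs : IsCoatom Ms) (hne : Ms ≠ M)
    (q : ℕ) (Q : Subgroup G) (hq : q.Prime) (hQ : IsSylowIn q Q M)
    (hNQ : Subgroup.normalizer (Q : Set G) ≤ Ms) (hqα : q ∉ Cfsg.alpha M)
    (hQM' : Q ≤ ⁅M, M⁆) : ∀ s : ℕ, s ∈ Cfsg.alpha M → s ∈ Cfsg.beta M := by
  intro s hsα
  by_contra hsβ
  have hs : s.Prime := hsα.1
  haveI : Fact s.Prime := ⟨hs⟩
  haveI : Fact q.Prime := ⟨hq⟩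
  have hM'M : ⁅M, M⁆ ≤ M := Subgroup.commutator_le.mpr
    (fun a ha b hb => M.mul_mem (M.mul_mem (M.mul_mem ha hb) (M.inv_mem ha)) (M.inv_mem hb))
  have hsolvM : Group.IsSolvable M := isSolvable_of_ne_top hG hM.1
  have hsolv : Group.IsSolvable ↥⁅M, M⁆ :=
    Cfsg.Agent.Lib.Helper1.isSolvable_of_le hM'M hsolvM
  obtain ⟨-, -, ⟨H, hH, hHnil⟩, -, -⟩ := h1414 M hM
  have hQπ : ∀ r : ℕ, r.Prime → r ∣ Nat.card Q → r ∈ {r : ℕ | r.Prime ∧ r ∉ Cfsg.beta M} := by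
    intro r hr hrQ
    rw [hQ.2] at hrQ
    have hrq : r = q := (Nat.prime_dvd_prime_iff_eq hr hq).mp (hr.dvd_of_dvd_pow hrQ)
    subst hrq
    exact ⟨hr, fun h => hqα h.1⟩
  obtain ⟨H', hH', hQH'⟩ :=
    Cfsg.Agent.Lib.Helper67.BG.exists_piHallOf_ge _ ⁅M, M⁆ hsolv Q hQM' hQπ
  obtain ⟨m, hm, hmH'⟩ := exists_conj_of_isPiHallOf hsolv hH hH'
  have hH'nil : Group.IsNilpotent ↥H' := by
    rw [hmH']
    haveI := hHnil
    exact Group.nilpotent_of_mulEquiv (H.equivMapOfInjective _ (MulAut.conj m).injective)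
  obtain ⟨S, K', i, j, hSH', hK'H', hSp, hK'cop, hcard, hcomm, hdec⟩ :=
    Cfsg.Agent.Lib.Helper16.BG.nil_decomp H' hH'nil s
  have hsq : s ≠ q := fun h => hqα (h ▸ hsα)
  have hQp : IsPGroup q Q := sylIn_isPGroup hQ
  have hQK' : Q ≤ K' := by
    intro y hy
    obtain ⟨h1, h2, h3⟩ := hdec y (hQH' hy)
    have h4 : y ^ i = 1 :=
      Subgroup.disjoint_def.mp (IsPGroup.disjoint_of_ne s q hsq S Q hSp hQp) h1 (Q.zpow_mem hy i)
    rw [h4, one_mul] at h3
    rw [← h3]; exact h2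
  have hSQ : S ≤ Subgroup.centralizer (Q : Set G) := by
    intro u hu
    apply Subgroup.mem_centralizer_iff.mpr
    intro y hy
    exact (hcomm u hu y (hQK' hy)).symm
  have hSMs : S ≤ Ms := fun u hu => hNQ (centralizer_le_normalizer' Q (hSQ hu))
  have hSM : S ≤ M := hSH'.trans (hH'.1.trans hM'M)
  obtain ⟨hαHall, -, hασ, -, -⟩ := h1405 M hM
  have hαM' : Cfsg.alphaCore M ≤ ⁅M, M⁆ :=
    hασ.trans (Cfsg.Agent.Lib.Helper66.BG.sigmaCore_le_commutator hG h1404 M hM)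
  have hnd : ¬ s ∣ S.relIndex M := by
    have e1 : S.relIndex H' * H'.relIndex M = S.relIndex M :=
      Subgroup.relIndex_mul_relIndex S H' M hSH' (hH'.1.trans hM'M)
    have e2 : H'.relIndex ⁅M, M⁆ * (⁅M, M⁆ : Subgroup G).relIndex M = H'.relIndex M :=
      Subgroup.relIndex_mul_relIndex H' ⁅M, M⁆ M hH'.1 hM'M
    have n1 : ¬ s ∣ S.relIndex H' := by
      have e3 : Nat.card S * S.relIndex H' = Nat.card H' := card_mul_relIndex' hSH'
      have e4 : S.relIndex H' = Nat.card K' :=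
        Nat.eq_of_mul_eq_mul_left Nat.card_pos (e3.trans hcard.symm)
      rw [e4]
      intro hdvd
      exact (Nat.Prime.coprime_iff_not_dvd hs).mp hK'cop.symm hdvd
    have n2 : ¬ s ∣ H'.relIndex ⁅M, M⁆ := hH'.2.2 s hs ⟨hs, hsβ⟩
    have n3 : ¬ s ∣ (⁅M, M⁆ : Subgroup G).relIndex M := fun hdvd =>
      hαHall.2.2 s hs hsα (hdvd.trans (Subgroup.relIndex_dvd_of_le_left M hαM'))
    rw [← e1, ← e2]
    intro hdvd
    rcases (Nat.Prime.dvd_mul hs).mp hdvd with h | h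
    · exact n1 h
    · rcases (Nat.Prime.dvd_mul hs).mp h with h | h
      · exact n2 h
      · exact n3 h
  have hSyl : IsSylowIn s S M := by
    obtain ⟨R, hR, hSR⟩ := exists_isSylowIn_ge hSp hSM
    have hRS : S = R := by
      apply Subgroup.eq_of_le_of_card_ge hSR
      have e1 : Nat.card S * S.relIndex M = Nat.card M := card_mul_relIndex' hSM
      have h1 : Nat.card R ∣ Nat.card S * S.relIndex M := by
        rw [e1]; exact Subgroup.card_dvd_of_le hR.1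
      have h2 : (Nat.card R).Coprime (S.relIndex M) := by
        rw [hR.2]
        exact Nat.Coprime.pow_left _ ((Nat.Prime.coprime_iff_not_dvd hs).mpr hnd)
      exact Nat.le_of_dvd Nat.card_pos (h2.dvd_of_dvd_mul_right h1)
    rw [hRS]; exact hR
  have hrank : ¬ PRankLE s 2 S := fun h => hsα.2 (pRankLE_of_isSylowIn hSyl h)
  have hU := h1403 S (ne_top_of_le_ne_top hM.1 hSM)
    (not_rankLE_of_not_pRankLE (p := s)
      (fun h => hrank (pRankLE_mono hs.pos (by norm_num) h)))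
    (Or.inl (not_rankLE_of_not_pRankLE hrank))
  obtain ⟨L, -, hL⟩ := hU
  have h1 := hL M ⟨hM, hSM⟩
  have h2 := hL Ms ⟨hMs, hSMs⟩
  exact hne (h2.trans h1.symm)

end Cfsg.Agent.Lib.Helper85.BG
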