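import Mathlib
import Cfsg.Agent.Lib.Helper50.BG.S1430Defs
import Cfsg.Agent.Lib.Helper85.BG.Tau1Semiprime
import Cfsg.Agent.Lib.Helper78.BG.S1405Core
import Cfsg.Agent.Lib.Helper67.BG.HallUtil

/-!
S1430 campaign (helper50's CASE I packages): `LemUreg` — if `κ(M) ⊆ τ₁(M)` then no non-identity
element of `K` centralizes a non-identity element of a Hall `(κ(M) ∪ σ(M))'`-subgroup `U ≤ E`
(S1428, S1418, 13.12) — helper85.
-/

set_option autoImplicit false

namespace Cfsg.Agent.Lib.Helper85.BG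

open Cfsg

universe u

theorem lemUreg : Cfsg.Agent.Lib.Helper50.BG30.LemUreg.{u} := by
  intro hFix G _ _ hG hy h12 M hM E hE K hK hKE hκ U hUE hU k hk hk1
  rw [eq_bot_iff]
  intro u hu
  rw [Subgroup.mem_bot]
  by_contra hu1
  obtain ⟨huU, huk⟩ := Subgroup.mem_inf.mp hu
  have hcomm : Commute u k := Subgroup.mem_centralizer_singleton_iff.mp huk
  obtain ⟨y, hyk, hyp, -⟩ := exists_prime_order_pow hk1
  obtain ⟨w, hwu, hwp, hw1⟩ := exists_prime_order_pow hu1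
  have hyK : y ∈ K := ((Subgroup.zpowers_le).mpr hk) hyk
  have hwU : w ∈ U := ((Subgroup.zpowers_le).mpr huU) hwu
  have hpκ : orderOf y ∈ Cfsg.kappa M := hK.2.1 _ hyp (Subgroup.orderOf_dvd_natCard K hyK)
  have hpτ : orderOf y ∈ Cfsg.tau1 M := hκ _ hpκ
  have hrU := hU.2.1 _ hwp (Subgroup.orderOf_dvd_natCard U hwU)
  have hwy : Commute w y := by
    obtain ⟨i, rfl⟩ := Subgroup.mem_zpowers_iff.mp hwu
    obtain ⟨j, rfl⟩ := Subgroup.mem_zpowers_iff.mp hyk
    exact (hcomm.zpow_right j).zpow_left i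
  have hPE : Subgroup.zpowers y ≤ E := (Subgroup.zpowers_le).mpr (hKE hyK)
  have hRE : Subgroup.zpowers w ≤ E := (Subgroup.zpowers_le).mpr (hUE hwU)
  have hRc : Subgroup.zpowers w ≤
      Subgroup.centralizer ((Subgroup.zpowers y : Subgroup G) : Set G) := by
    rw [Subgroup.zpowers_le, centralizer_zpowers_eq_singleton]
    exact Subgroup.mem_centralizer_singleton_iff.mpr hwy.eq
  have h28 := hy.h1428 M hM E hE (orderOf y) hpτ (Subgroup.zpowers y) hPE (Nat.card_zpowers y)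
    (Subgroup.zpowers w) (le_inf hRE hRc) (by rw [Nat.card_zpowers]; exact hwp)
  have hfix : Cfsg.sigmaCore M ⊓
      Subgroup.centralizer ((Subgroup.zpowers y : Subgroup G) : Set G) ≠ ⊥ :=
    hFix M (orderOf y) hpκ (Subgroup.zpowers y) (hPE.trans hE.1) (Nat.card_zpowers y)
  obtain ⟨c, hc, hc1⟩ : ∃ c ∈ Cfsg.sigmaCore M ⊓
      Subgroup.centralizer ((Subgroup.zpowers y : Subgroup G) : Set G), c ≠ 1 := by
    by_contra hcon
    push_neg at hcon
    exact hfix ((Subgroup.eq_bot_iff_forall _).mpr hcon)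
  have hcR := h28 hc
  obtain ⟨hcσ, hcw⟩ := Subgroup.mem_inf.mp hcR
  rw [centralizer_zpowers_eq_singleton] at hcw
  have hcw' : c * w = w * c := Subgroup.mem_centralizer_singleton_iff.mp hcw
  have hr2 : Cfsg.PRankLE (orderOf w) 2 M := by
    by_contra hrank
    exact hrU.2.2 (Cfsg.Agent.Lib.Helper78.BG.alpha_subset_sigma hG hy.h1403 M hM ⟨hwp, hrank⟩)
  have hwM : w ∈ M := hE.1 (hUE hwU)
  haveI : Fact (orderOf w).Prime := ⟨hwp⟩
  by_cases hr1 : Cfsg.PRankLE (orderOf w) 1 M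
  · exact hrU.2.1 (Cfsg.Agent.Lib.Helper67.BG.mem_kappa_of_rank_one hG.1 M (orderOf w) hrU.2.2
      hr1 w hwM rfl c hcσ hc1 hcw'.symm)
  · have hτ2 : orderOf w ∈ Cfsg.tau2 M := ⟨hwp, hrU.2.2, hr2, hr1⟩
    obtain ⟨A, hAE, hAe, hAc⟩ := Cfsg.Agent.Lib.Helper67.BG.exists_ea_sq_le_compl hE hτ2
    have h18 := hy.h1418 M hM E hE (orderOf w) hτ2 A ⟨hAE, hAe, hAc⟩
    have hRA : Subgroup.zpowers w ≤ A := h18.1.2 (Subgroup.zpowers w) hRE (Nat.card_zpowers w)
    have hne : A ⊓ Subgroup.centralizer ((Subgroup.zpowers y : Subgroup G) : Set G) ≠ ⊥ := by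
      intro hbot
      have : w ∈ A ⊓ Subgroup.centralizer ((Subgroup.zpowers y : Subgroup G) : Set G) :=
        Subgroup.mem_inf.mpr ⟨hRA (Subgroup.mem_zpowers w), hRc (Subgroup.mem_zpowers w)⟩
      rw [hbot, Subgroup.mem_bot] at this
      exact hw1 this
    exact hfix (h12 M hM E hE (orderOf w) hτ2 A hAE hAe hAc (orderOf y) hpτ (Subgroup.zpowers y)
      hPE (Nat.card_zpowers y) hne)

end Cfsg.Agent.Lib.Helper85.BG
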